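import Groth.Agent.Lib.Helper9.HensK.Strict
import Mathlib.RingTheory.Flat.FaithfullyFlat.Algebra

/-!
# Uniqueness of the strict henselization, and first consequences
-/

namespace Groth.Agent.Lib.Helper9.HensK

open IsLocalRing

universe u

section

variable (R : Type u) [CommRing R] [IsLocalRing R]
  (S₁ : Type u) [CommRing S₁] [IsLocalRing S₁] [Algebra R S₁] [IsLocalHom (algebraMap R S₁)]
  [h₁ : Hensel.IsStrictHenselization R S₁]
  (S₂ : Type u) [CommRing S₂] [IsLocalRing S₂] [Algebra R S₂] [IsLocalHom (algebraMap R S₂)]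
  [h₂ : Hensel.IsStrictHenselization R S₂]

/-- Two strict henselizations of `R` are isomorphic as `R`-algebras. -/
theorem nonempty_algEquiv_of_isStrictHenselization : Nonempty (S₁ ≃ₐ[R] S₂) := by
  haveI := h₁.henselian
  haveI := h₂.henselian
  haveI := h₁.isSepClosure
  haveI := h₂.isSepClosure
  let τ : ResidueField S₁ ≃ₐ[ResidueField R] ResidueField S₂ :=
    IsSepClosure.equiv (ResidueField R) (ResidueField S₁) (ResidueField S₂)
  have hτ : (τ : ResidueField S₁ →+* ResidueField S₂).comp
      (ResidueField.map (algebraMap R S₁)) = ResidueField.map (algebraMap R S₂) := by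
    ext c
    exact τ.commutes c
  have hτ' : (τ.symm : ResidueField S₂ →+* ResidueField S₁).comp
      (ResidueField.map (algebraMap R S₂)) = ResidueField.map (algebraMap R S₁) := by
    ext c
    exact τ.symm.commutes c
  obtain ⟨g, ⟨hg1, hg2⟩, -⟩ := h₁.universal S₂ (algebraMap R S₂) (τ : _ →+* _) hτ
  obtain ⟨g', ⟨hg'1, hg'2⟩, -⟩ := h₂.universal S₁ (algebraMap R S₁) (τ.symm : _ →+* _) hτ'
  obtain ⟨i₁, -, hi₁⟩ := h₁.universal S₁ (algebraMap R S₁) (RingHom.id _) (RingHom.id_comp _)
  obtain ⟨i₂, -, hi₂⟩ := h₂.universal S₂ (algebraMap R S₂) (RingHom.id _) (RingHom.id_comp _)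
  have e1 : g'.comp g = RingHom.id S₁ := by
    have a1 : g'.comp g = i₁ := hi₁ (g'.comp g) ⟨by rw [RingHom.comp_assoc, hg1, hg'1], fun x => by
      rw [RingHom.comp_apply, hg'2, hg2]
      exact τ.symm_apply_apply _⟩
    have a2 : RingHom.id S₁ = i₁ := hi₁ (RingHom.id S₁) ⟨RingHom.id_comp _, fun x => rfl⟩
    rw [a1, a2]
  have e2 : g.comp g' = RingHom.id S₂ := by
    have a1 : g.comp g' = i₂ := hi₂ (g.comp g') ⟨by rw [RingHom.comp_assoc, hg'1, hg1], fun x => by
      rw [RingHom.comp_apply, hg2, hg'2]
      exact τ.apply_symm_apply _⟩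
    have a2 : RingHom.id S₂ = i₂ := hi₂ (RingHom.id S₂) ⟨RingHom.id_comp _, fun x => rfl⟩
    rw [a1, a2]
  exact ⟨{ toFun := g
           invFun := g'
           left_inv := fun x => DFunLike.congr_fun e1 x
           right_inv := fun x => DFunLike.congr_fun e2 x
           map_mul' := map_mul g
           map_add' := map_add g
           commutes' := fun r => DFunLike.congr_fun hg1 r }⟩

end

section

variable (R : Type u) [CommRing R] [IsLocalRing R]
  (S : Type u) [CommRing S] [IsLocalRing S] [Algebra R S] [IsLocalHom (algebraMap R S)]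
  [Hensel.IsStrictHenselization R S]

/-- Any strict henselization of `R` is isomorphic to the model. -/
noncomputable def algEquivStrictHenselization : S ≃ₐ[R] StrictHenselization R :=
  (nonempty_algEquiv_of_isStrictHenselization R S (StrictHenselization R)).some

omit [IsLocalRing R] [IsLocalHom (algebraMap R S)] [Hensel.IsStrictHenselization R S] in
theorem mem_maximalIdeal_iff_of_algEquiv' {S' : Type u} [CommRing S'] [IsLocalRing S']
    [Algebra R S'] (e : S ≃ₐ[R] S') (x : S) : x ∈ maximalIdeal S ↔ e x ∈ maximalIdeal S' := by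
  rw [mem_maximalIdeal, mem_maximalIdeal, mem_nonunits_iff, mem_nonunits_iff]
  exact not_congr ⟨fun h => h.map e, fun h => by simpa using h.map e.symm⟩

/-- `𝔪_R S = 𝔪_S` for any strict henselization `S` of `R`. -/
theorem map_maximalIdeal_of_isStrictHenselization :
    (maximalIdeal R).map (algebraMap R S) = maximalIdeal S := by
  let e := algEquivStrictHenselization R S
  apply le_antisymm
  · rw [Ideal.map_le_iff_le_comap]
    intro a ha
    rw [Ideal.mem_comap, mem_maximalIdeal, mem_nonunits_iff]
    intro hu
    exact ((mem_maximalIdeal a).mp ha) (isUnit_of_map_unit (algebraMap R S) a hu)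
  · intro x hx
    have h1 : e x ∈ (maximalIdeal R).map (algebraMap R (StrictHenselization R)) := by
      rw [PtColim.map_maximalIdeal']
      exact (mem_maximalIdeal_iff_of_algEquiv' R S e x).mp hx
    have h2 := Ideal.mem_map_of_mem e.symm.toAlgHom.toRingHom h1
    rw [Ideal.map_map] at h2
    have h3 : e.symm.toAlgHom.toRingHom.comp (algebraMap R (StrictHenselization R)) =
        algebraMap R S := RingHom.ext fun r => e.symm.commutes r
    rw [h3] at h2
    have h4 : e.symm.toAlgHom.toRingHom (e x) = x := e.symm_apply_apply x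
    rw [h4] at h2
    exact h2

theorem flat_of_isStrictHenselization : Module.Flat R S :=
  Module.Flat.of_linearEquiv (algEquivStrictHenselization R S).toLinearEquiv

theorem faithfullyFlat_of_isStrictHenselization : Module.FaithfullyFlat R S := by
  haveI := flat_of_isStrictHenselization R S
  exact Module.FaithfullyFlat.of_flat_of_isLocalHom

theorem formallyEtale_of_isStrictHenselization : Algebra.FormallyEtale R S :=
  Algebra.FormallyEtale.of_equiv (algEquivStrictHenselization R S).symm

end

end Groth.Agent.Lib.Helper9.HensK
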