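import Groth.Agent.Lib.Helper9.HensK.StrictUnique
import Groth.Agent.Lib.Helper3.QFLocal
import Groth.Agent.Lib.Helper3.HensTensor
import Groth.Agent.Lib.Helper3.IdemBij
import Mathlib.FieldTheory.PurelyInseparable.Basic

/-!
# Strict henselization of a finite local algebra (helper9)

Let `A` be a local ring with strict henselization `S` and `B` a local finite `A`-algebra.  For every
maximal ideal `q` of `B ⊗[A] S` the local ring `(B ⊗[A] S)_q` is a strict henselization of `B`.
-/

set_option autoImplicit false

namespace Groth.Agent.Lib.Helper9.HensK

open TensorProduct IsLocalRing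

universe u

/-- A local ring integral over a henselian local ring is henselian. -/
theorem henselianLocalRing_of_isIntegral (R : Type u) [CommRing R] [HenselianLocalRing R]
    (T : Type u) [CommRing T] [IsLocalRing T] [Algebra R T] [Algebra.IsIntegral R T] :
    HenselianLocalRing T := by
  have hH1 : HenselianRing T ((maximalIdeal R).map (algebraMap R T)) :=
    Groth.Agent.Lib.Helper3.henselianRing_map_of_isIntegral (maximalIdeal R) T
  have hcomap : (maximalIdeal T).comap (algebraMap R T) = maximalIdeal R := by
    have : ((maximalIdeal T).comap (algebraMap R T)).IsMaximal :=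
      Ideal.isMaximal_comap_of_isIntegral_of_isMaximal (maximalIdeal T)
    exact IsLocalRing.eq_maximalIdeal this
  have hrad : ((maximalIdeal R).map (algebraMap R T)).radical = (maximalIdeal T).radical := by
    apply le_antisymm
    · apply Ideal.radical_mono
      rw [Ideal.map_le_iff_le_comap, hcomap]
    · rw [Ideal.radical_eq_sInf ((maximalIdeal R).map (algebraMap R T))]
      apply le_sInf
      rintro q ⟨hq1, hq2⟩
      have h1 : (q.comap (algebraMap R T)).IsMaximal := by
        have h2 : maximalIdeal R ≤ q.comap (algebraMap R T) := Ideal.map_le_iff_le_comap.mp hq1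
        have h3 : q.comap (algebraMap R T) ≠ ⊤ := (Ideal.comap_isPrime _ q).ne_top
        rw [← (maximalIdeal.isMaximal R).eq_of_le h3 h2]
        exact maximalIdeal.isMaximal R
      have h4 : q.IsMaximal := Ideal.isMaximal_of_isIntegral_of_isMaximal_comap q h1
      rw [IsLocalRing.eq_maximalIdeal h4, (maximalIdeal.isMaximal _).isPrime.radical]
  haveI hH2 : HenselianRing T (maximalIdeal T) :=
    (Groth.Agent.Lib.Helper3.henselianRing_iff_of_radical_eq _ _ hrad).mp hH1
  exact Groth.Agent.Lib.Helper3.henselianLocalRing_of_henselianRing_maximalIdeal T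

section TensorRight

attribute [local instance] Algebra.TensorProduct.rightAlgebra

variable (A B S : Type u) [CommRing A] [CommRing B] [Algebra A B] [CommRing S] [Algebra A S]

theorem tmul_eq_smul_tmul_one (b : B) (s : S) : b ⊗ₜ[A] s = s • (b ⊗ₜ[A] (1 : S)) := by
  rw [Algebra.smul_def, Algebra.TensorProduct.right_algebraMap_apply,
    Algebra.TensorProduct.tmul_mul_tmul, one_mul, mul_one]

/-- `B ⊗[A] S` is a finite `S`-module (right structure) when `B` is a finite `A`-module. -/
theorem finite_tensor_right [Module.Finite A B] : Module.Finite S (B ⊗[A] S) := by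
  classical
  obtain ⟨T, hT⟩ := (Module.Finite.fg_top : (⊤ : Submodule A B).FG)
  refine ⟨⟨T.image (fun b => b ⊗ₜ[A] (1 : S)), ?_⟩⟩
  rw [eq_top_iff]
  rintro x -
  induction x using TensorProduct.induction_on with
  | zero => exact Submodule.zero_mem _
  | tmul b s =>
    rw [tmul_eq_smul_tmul_one]
    refine Submodule.smul_mem _ _ ?_
    have hb : b ∈ Submodule.span A (T : Set B) := by rw [hT]; trivial
    induction hb using Submodule.span_induction with
    | mem y hy =>
      apply Submodule.subset_span
      rw [Finset.coe_image]
      exact ⟨y, hy, rfl⟩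
    | zero => rw [zero_tmul]; exact Submodule.zero_mem _
    | add y z _ _ hy hz => rw [add_tmul]; exact Submodule.add_mem _ hy hz
    | smul a y _ hy =>
      have h1 : (a • y) ⊗ₜ[A] (1 : S) = algebraMap A S a • (y ⊗ₜ[A] (1 : S)) := by
        rw [Algebra.smul_def (algebraMap A S a), Algebra.TensorProduct.right_algebraMap_apply,
          Algebra.TensorProduct.tmul_mul_tmul, one_mul, mul_one, TensorProduct.smul_tmul,
          Algebra.smul_def, mul_one]
      rw [h1]
      exact Submodule.smul_mem _ _ hy
  | add x y hx hy => exact Submodule.add_mem _ hx hy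

end TensorRight

section Main

attribute [local instance] Algebra.TensorProduct.rightAlgebra

variable (A B S : Type u) [CommRing A] [IsLocalRing A] [CommRing B] [IsLocalRing B] [Algebra A B]
  [Module.Finite A B] [CommRing S] [IsLocalRing S] [Algebra A S] [IsLocalHom (algebraMap A S)]

/-- A finite algebra map between local rings is local. -/
theorem comap_maximalIdeal_of_finite :
    (maximalIdeal B).comap (algebraMap A B) = maximalIdeal A := by
  have : ((maximalIdeal B).comap (algebraMap A B)).IsMaximal :=
    Ideal.isMaximal_comap_of_isIntegral_of_isMaximal (maximalIdeal B)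
  exact IsLocalRing.eq_maximalIdeal this

theorem isLocalHom_of_finite : IsLocalHom (algebraMap A B) :=
  ((IsLocalRing.local_hom_TFAE (algebraMap A B)).out 0 4).mpr (comap_maximalIdeal_of_finite A B)

variable (q : Ideal (B ⊗[A] S)) [hq : q.IsMaximal]

include hq in
theorem comap_right_eq_maximalIdeal :
    q.comap (algebraMap S (B ⊗[A] S)) = maximalIdeal S := by
  haveI : Module.Finite S (B ⊗[A] S) := finite_tensor_right A B S
  have : (q.comap (algebraMap S (B ⊗[A] S))).IsMaximal :=
    Ideal.isMaximal_comap_of_isIntegral_of_isMaximal q
  exact IsLocalRing.eq_maximalIdeal this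

include hq in
theorem comap_left_eq_maximalIdeal :
    q.comap (algebraMap B (B ⊗[A] S)) = maximalIdeal B := by
  have hcomapAS : (maximalIdeal S).comap (algebraMap A S) = maximalIdeal A :=
    ((IsLocalRing.local_hom_TFAE (algebraMap A S)).out 0 4).mp ‹IsLocalHom (algebraMap A S)›
  have h1 : (q.comap (algebraMap B (B ⊗[A] S))).comap (algebraMap A B) = maximalIdeal A := by
    rw [Ideal.comap_comap, ← IsScalarTower.algebraMap_eq,
      IsScalarTower.algebraMap_eq A S (B ⊗[A] S), ← Ideal.comap_comap,
      comap_right_eq_maximalIdeal A B S q, hcomapAS]
  have h2 : ((q.comap (algebraMap B (B ⊗[A] S))).comap (algebraMap A B)).IsMaximal := by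
    rw [h1]; exact maximalIdeal.isMaximal A
  have h3 : (q.comap (algebraMap B (B ⊗[A] S))).IsMaximal :=
    Ideal.isMaximal_of_isIntegral_of_isMaximal_comap _ h2
  exact IsLocalRing.eq_maximalIdeal h3

include hq in
theorem algebraMap_localization_surjective (hSh : HenselianLocalRing S) :
    Function.Surjective (algebraMap (B ⊗[A] S) (Localization.AtPrime q)) := by
  haveI : Module.Finite S (B ⊗[A] S) := finite_tensor_right A B S
  exact Groth.Agent.Lib.Helper3.algebraMap_localization_surjective_of_finite S (B ⊗[A] S) q

include hq in
theorem finite_localization (hSh : HenselianLocalRing S) :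
    Module.Finite S (Localization.AtPrime q) := by
  haveI : Module.Finite S (B ⊗[A] S) := finite_tensor_right A B S
  exact Module.Finite.of_surjective
    (IsScalarTower.toAlgHom S (B ⊗[A] S) (Localization.AtPrime q)).toLinearMap
    (algebraMap_localization_surjective A B S q hSh)

include hq in
theorem henselianLocalRing_localization (hSh : HenselianLocalRing S) :
    HenselianLocalRing (Localization.AtPrime q) := by
  haveI := finite_localization A B S q hSh
  exact henselianLocalRing_of_isIntegral S (Localization.AtPrime q)

include hq in
theorem isLocalHom_left : IsLocalHom (algebraMap B (Localization.AtPrime q)) := by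
  constructor
  intro b hb
  by_contra hnu
  have h1 : b ∈ maximalIdeal B := by rwa [mem_maximalIdeal, mem_nonunits_iff]
  rw [← comap_left_eq_maximalIdeal A B S q, Ideal.mem_comap] at h1
  rw [IsScalarTower.algebraMap_apply B (B ⊗[A] S) (Localization.AtPrime q),
    IsLocalization.AtPrime.isUnit_to_map_iff (Localization.AtPrime q) q] at hb
  exact hb h1

include hq in
theorem isLocalHom_right : IsLocalHom (algebraMap S (Localization.AtPrime q)) := by
  constructor
  intro b hb
  by_contra hnu
  have h1 : b ∈ maximalIdeal S := by rwa [mem_maximalIdeal, mem_nonunits_iff]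
  rw [← comap_right_eq_maximalIdeal A B S q, Ideal.mem_comap] at h1
  rw [IsScalarTower.algebraMap_apply S (B ⊗[A] S) (Localization.AtPrime q),
    IsLocalization.AtPrime.isUnit_to_map_iff (Localization.AtPrime q) q] at hb
  exact hb h1

include hq in
theorem isLocalHom_base : IsLocalHom (algebraMap A (Localization.AtPrime q)) := by
  haveI := isLocalHom_right A B S q
  rw [IsScalarTower.algebraMap_eq A S (Localization.AtPrime q)]
  exact RingHom.isLocalHom_comp _ _

attribute [local instance] isLocalHom_of_finite isLocalHom_left isLocalHom_right isLocalHom_base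

include hq in
theorem algebraMap_tmul (b : B) (s : S) :
    algebraMap (B ⊗[A] S) (Localization.AtPrime q) (b ⊗ₜ[A] s) =
      algebraMap B (Localization.AtPrime q) b * algebraMap S (Localization.AtPrime q) s := by
  rw [IsScalarTower.algebraMap_apply B (B ⊗[A] S) (Localization.AtPrime q),
    IsScalarTower.algebraMap_apply S (B ⊗[A] S) (Localization.AtPrime q), ← map_mul,
    Algebra.TensorProduct.algebraMap_apply, Algebra.TensorProduct.right_algebraMap_apply,
    Algebra.TensorProduct.tmul_mul_tmul, mul_one, one_mul, Algebra.algebraMap_self,
    RingHom.id_apply]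

include hq in
theorem isSepClosure_residueField (hS : Hensel.IsStrictHenselization A S) :
    IsSepClosure (ResidueField B) (ResidueField (Localization.AtPrime q)) := by
  have hSh : HenselianLocalRing S := hS.henselian
  haveI := hS.isSepClosure
  haveI : IsSepClosed (ResidueField S) := IsSepClosure.sep_closed (k := ResidueField A)
  haveI := finite_localization A B S q hSh
  haveI : Algebra.IsAlgebraic (ResidueField S) (ResidueField (Localization.AtPrime q)) :=
    Algebra.IsAlgebraic.of_finite _ _
  refine ⟨Algebra.IsAlgebraic.isSepClosed (F := ResidueField S), ?_⟩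
  rw [← separableClosure.eq_top_iff, eq_top_iff]
  rintro x -
  obtain ⟨y, rfl⟩ := residue_surjective x
  obtain ⟨c, rfl⟩ := algebraMap_localization_surjective A B S q hSh y
  induction c using TensorProduct.induction_on with
  | zero => rw [map_zero, map_zero]; exact zero_mem _
  | tmul b s =>
    rw [algebraMap_tmul, map_mul]
    refine mul_mem ?_ ?_
    · rw [← ResidueField.algebraMap_residue]
      exact (separableClosure _ _).algebraMap_mem _
    · rw [← ResidueField.algebraMap_residue (R := S), mem_separableClosure_iff]
      have h1 : IsSeparable (ResidueField A) (residue S s) :=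
        Algebra.IsSeparable.isSeparable _ _
      have h2 : IsSeparable (ResidueField A)
          (algebraMap (ResidueField S) (ResidueField (Localization.AtPrime q)) (residue S s)) :=
        h1.map (IsScalarTower.toAlgHom (ResidueField A) (ResidueField S)
          (ResidueField (Localization.AtPrime q)))
          (algebraMap (ResidueField S) (ResidueField (Localization.AtPrime q))).injective
      exact h2.tower_top (ResidueField B)
  | add x y hx hy => rw [map_add, map_add]; exact add_mem hx hy

include hq in
/-- For a local ring `A` with strict henselization `S`, a local finite `A`-algebra `B` and a maximal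
ideal `q` of `B ⊗[A] S`, the local ring `(B ⊗[A] S)_q` is a strict henselization of `B`. -/
theorem isStrictHenselization_localization (hS : Hensel.IsStrictHenselization A S) :
    Hensel.IsStrictHenselization B (Localization.AtPrime q) := by
  have hSh : HenselianLocalRing S := hS.henselian
  refine ⟨henselianLocalRing_localization A B S q hSh, isSepClosure_residueField A B S q hS, ?_⟩
  intro D _ _ f _ τ hτ
  let fA : A →+* D := f.comp (algebraMap A B)
  haveI : IsLocalHom fA := RingHom.isLocalHom_comp _ _
  let τS : ResidueField S →+* ResidueField D :=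
    τ.comp (ResidueField.map (algebraMap S (Localization.AtPrime q)))
  have hτS : τS.comp (ResidueField.map (algebraMap A S)) = ResidueField.map fA := by
    apply RingHom.ext
    intro x
    obtain ⟨a, rfl⟩ := residue_surjective x
    have h1 := DFunLike.congr_fun hτ (residue B (algebraMap A B a))
    simp only [RingHom.comp_apply, ResidueField.map_residue] at h1
    simp only [τS, fA, RingHom.comp_apply, ResidueField.map_residue]
    rw [← h1, ← IsScalarTower.algebraMap_apply, ← IsScalarTower.algebraMap_apply]
  obtain ⟨gS, ⟨hgS1, hgS2⟩, hgSuniq⟩ := hS.universal D fA τS hτS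
  letI : Algebra A D := fA.toAlgebra
  let F : B →ₐ[A] D := { f with commutes' := fun _ => rfl }
  let GS : S →ₐ[A] D := { gS with commutes' := fun a => DFunLike.congr_fun hgS1 a }
  let G : B ⊗[A] S →ₐ[A] D := Algebra.TensorProduct.lift F GS (fun _ _ => Commute.all _ _)
  have hGtmul : ∀ (b : B) (s : S), G (b ⊗ₜ[A] s) = f b * gS s := fun b s =>
    Algebra.TensorProduct.lift_tmul F GS (fun _ _ => Commute.all _ _) b s
  have hresB : ∀ b : B, residue D (f b) =
      τ (residue _ (algebraMap B (Localization.AtPrime q) b)) := by
    intro b
    have h1 := DFunLike.congr_fun hτ (residue B b)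
    simp only [RingHom.comp_apply, ResidueField.map_residue] at h1
    exact h1.symm
  have hresS : ∀ s : S, residue D (gS s) =
      τ (residue _ (algebraMap S (Localization.AtPrime q) s)) := by
    intro s
    rw [hgS2]
    simp only [τS, RingHom.comp_apply, ResidueField.map_residue]
  have hkey : ∀ c : B ⊗[A] S, residue D (G c) =
      τ (residue _ (algebraMap (B ⊗[A] S) (Localization.AtPrime q) c)) := by
    intro c
    induction c using TensorProduct.induction_on with
    | zero => simp only [map_zero]
    | tmul b s =>
      rw [hGtmul, map_mul, algebraMap_tmul, map_mul, map_mul, hresB, hresS]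
    | add x y hx hy => simp only [map_add, hx, hy]
  have hunit : ∀ c : q.primeCompl, IsUnit ((G : B ⊗[A] S →+* D) c) := by
    intro c
    show IsUnit (G c)
    rw [← residue_ne_zero_iff_isUnit, hkey]
    intro h0
    have h1 : residue _ (algebraMap (B ⊗[A] S) (Localization.AtPrime q) c) = 0 :=
      (map_eq_zero τ).mp h0
    rw [residue_eq_zero_iff] at h1
    have h2 : IsUnit (algebraMap (B ⊗[A] S) (Localization.AtPrime q) c) :=
      IsLocalization.map_units _ c
    exact (mem_maximalIdeal _).mp h1 h2
  let g : Localization.AtPrime q →+* D := IsLocalization.lift hunit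
  have hg : ∀ c, g (algebraMap (B ⊗[A] S) (Localization.AtPrime q) c) = G c :=
    IsLocalization.lift_eq hunit
  refine ⟨g, ⟨?_, ?_⟩, ?_⟩
  · apply RingHom.ext
    intro b
    rw [RingHom.comp_apply, IsScalarTower.algebraMap_apply B (B ⊗[A] S) (Localization.AtPrime q),
      hg, Algebra.TensorProduct.algebraMap_apply, Algebra.algebraMap_self, RingHom.id_apply, hGtmul,
      map_one, mul_one]
  · intro x
    obtain ⟨c, rfl⟩ := algebraMap_localization_surjective A B S q hSh x
    rw [hg, hkey]
  · rintro g' ⟨hg'1, hg'2⟩
    have h1 : g'.comp (algebraMap S (Localization.AtPrime q)) = gS := by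
      apply hgSuniq
      refine ⟨?_, ?_⟩
      · apply RingHom.ext
        intro a
        simp only [RingHom.comp_apply, fA]
        rw [← IsScalarTower.algebraMap_apply, IsScalarTower.algebraMap_apply A B
          (Localization.AtPrime q)]
        exact DFunLike.congr_fun hg'1 (algebraMap A B a)
      · intro s
        rw [RingHom.comp_apply, hg'2]
        simp only [τS, RingHom.comp_apply, ResidueField.map_residue]
    apply IsLocalization.ringHom_ext q.primeCompl
    apply RingHom.ext
    intro c
    rw [RingHom.comp_apply, RingHom.comp_apply, hg]
    induction c using TensorProduct.induction_on with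
    | zero => simp only [map_zero]
    | tmul b s =>
      rw [algebraMap_tmul, map_mul, hGtmul]
      congr 1
      · exact DFunLike.congr_fun hg'1 b
      · exact DFunLike.congr_fun h1 s
    | add x y hx hy => simp only [map_add, hx, hy]

end Main

end Groth.Agent.Lib.Helper9.HensK
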