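import Groth.Agent.Lib.Helper9.HensK.Residue
import Groth.Agent.Lib.Helper9.Hens.Local

/-!
# The strict henselization of a local ring
-/

namespace Groth.Agent.Lib.Helper9.HensK

open CategoryTheory TensorProduct Polynomial IsLocalRing

universe u

variable (R : Type u) [CommRing R] [IsLocalRing R]

/-- The strict henselization of a local ring `R` (a model). -/
abbrev StrictHenselization : Type u := PtColim R (SeparableClosure (ResidueField R))

namespace StrictHenselization

open PtColim

instance isStrictHenselization : Hensel.IsStrictHenselization R (StrictHenselization R) where
  henselian := inferInstance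
  isSepClosure := isSepClosure_residueField
  universal := by
    intro T _ _ f hf τ hτ
    letI : Algebra R T := f.toAlgebra
    let e : ResidueField (StrictHenselization R) ≃ₐ[ResidueField R]
        SeparableClosure (ResidueField R) := residueFieldEquiv
    let θ : SeparableClosure (ResidueField R) →ₐ[R] T ⧸ maximalIdeal T :=
      { τ.comp e.symm.toAlgHom.toRingHom with
        commutes' := fun a => by
          change τ (e.symm (algebraMap R (SeparableClosure (ResidueField R)) a)) = _
          rw [IsScalarTower.algebraMap_apply R (ResidueField R) (SeparableClosure (ResidueField R)),
            e.symm.commutes]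
          have h1 := DFunLike.congr_fun hτ (algebraMap R (ResidueField R) a)
          exact h1 }
    have hθ : ∀ x : StrictHenselization R, θ (residue x) =
        τ (IsLocalRing.residue (StrictHenselization R) x) := by
      intro x
      change τ (e.symm (residue x)) = _
      rw [← residueFieldEquiv_residue, e.symm_apply_apply]
    obtain ⟨g, hg1, hg2⟩ := PtColim.existsUnique_algHom (maximalIdeal T) θ
      (fun N τ' => Groth.Agent.Lib.Helper9.Hens.existsUnique_lift_of_henselianLocalRing T N.S τ')
    refine ⟨g.toRingHom, ⟨?_, ?_⟩, ?_⟩
    · ext a
      exact g.commutes a
    · intro x
      have h1 := DFunLike.congr_fun hg1 x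
      rw [AlgHom.comp_apply, AlgHom.comp_apply, hθ] at h1
      exact h1
    · rintro g' ⟨hg'1, hg'2⟩
      let g'' : StrictHenselization R →ₐ[R] T :=
        { g' with commutes' := fun a => DFunLike.congr_fun hg'1 a }
      have h1 : g'' = g := by
        apply hg2
        apply AlgHom.ext
        intro x
        rw [AlgHom.comp_apply, AlgHom.comp_apply, hθ]
        exact hg'2 x
      rw [← h1]

end StrictHenselization

end Groth.Agent.Lib.Helper9.HensK
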