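import Groth.Agent.Lib.Helper9.HensK.Colimit
import Mathlib.RingTheory.Etale.StandardEtale
import Mathlib.Algebra.Polynomial.Lifts
import Mathlib.RingTheory.Flat.EquationalCriterion
import Mathlib.RingTheory.Smooth.Flat

/-!
# The colimit of pointed étale algebras with points in `K`: algebra structure, residue map, units,
roots, flatness, formal étaleness, universal property
-/

namespace Groth.Agent.Lib.Helper9.HensK

open CategoryTheory TensorProduct Polynomial

universe u

variable {A : Type u} [CommRing A] {K : Type u} [CommRing K] [Algebra A K]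

variable (A K) in
/-- The base object `(A, A → K)`. -/
noncomputable def PtEt.base : PtEt A K := PtEt.of A (Algebra.ofId A K)

namespace PtColim

noncomputable instance : Algebra A (PtColim A K) :=
  ((ι (PtEt.base A K)).comp (algebraMap A (PtEt.base A K).S)).toAlgebra

theorem algebraMap_def (a : A) : algebraMap A (PtColim A K) a =
    ι (PtEt.base A K) (algebraMap A (PtEt.base A K).S a) := rfl

theorem ι_algebraMap (N : PtEt A K) (a : A) :
    ι N (algebraMap A N.S a) = algebraMap A (PtColim A K) a := by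
  rw [algebraMap_def, ← ι_comp (IsFiltered.leftToMax N (PtEt.base A K)),
    ← ι_comp (IsFiltered.rightToMax N (PtEt.base A K)), AlgHom.commutes, AlgHom.commutes]

/-- The structure maps as algebra maps. -/
noncomputable def ιₐ (N : PtEt A K) : N.S →ₐ[A] PtColim A K :=
  { ι N with commutes' := ι_algebraMap N }

@[simp] theorem ιₐ_apply (N : PtEt A K) (x : N.S) : ιₐ N x = ι N x := rfl

theorem ιₐ_comp {N₁ N₂ : PtEt A K} (f : N₁ ⟶ N₂) : (ιₐ N₂).comp f.1 = ιₐ N₁ :=
  AlgHom.ext fun x => ι_comp f x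

/-- The residue map `PtColim A K → K`. -/
noncomputable def residue : PtColim A K →ₐ[A] K :=
  { desc (fun N => N.σ.toRingHom) (fun _ _ f x => f.σ_apply x) with
    commutes' := fun a => by
      change desc (fun N => N.σ.toRingHom) (fun _ _ f x => f.σ_apply x)
        (algebraMap A (PtColim A K) a) = _
      rw [← ι_algebraMap (PtEt.base A K) a, desc_ι]
      exact AlgHom.commutes _ a }

theorem residue_ι (N : PtEt A K) (x : N.S) : residue (ι N x) = N.σ x :=
  desc_ι (fun N => N.σ.toRingHom) (fun _ _ f x => f.σ_apply x) N x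

theorem isUnit_ι_of_isUnit_σ (N : PtEt A K) (d : N.S) (hd : IsUnit (N.σ d)) :
    IsUnit (ι N d) := by
  obtain ⟨Z, h, hu, -⟩ := PtEt.exists_away N d hd
  rw [← ι_comp h]
  exact hu.map _

theorem isUnit_of_isUnit_residue (x : PtColim A K) (hx : IsUnit (residue x)) : IsUnit x := by
  obtain ⟨N, y, rfl⟩ := exists_rep x
  rw [residue_ι] at hx
  exact isUnit_ι_of_isUnit_σ N y hx

theorem isUnit_iff_isUnit_residue (x : PtColim A K) : IsUnit x ↔ IsUnit (residue x) :=
  ⟨fun h => h.map _, isUnit_of_isUnit_residue x⟩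

theorem ker_residue_le_jacobson :
    RingHom.ker (residue : PtColim A K →ₐ[A] K).toRingHom ≤ Ideal.jacobson ⊥ := by
  intro x hx
  rw [Ideal.mem_jacobson_bot]
  intro y
  apply isUnit_of_isUnit_residue
  have h0 : residue x = 0 := hx
  rw [map_add, map_mul, h0, zero_mul, zero_add, map_one]
  exact isUnit_one

theorem exists_common (s : Finset (PtColim A K)) :
    ∃ N : PtEt A K, ∀ x ∈ s, x ∈ Set.range (ι N) := by
  classical
  induction s using Finset.induction_on with
  | empty => exact ⟨PtEt.base A K, by simp⟩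
  | insert a s _ ih =>
    obtain ⟨N₁, hN₁⟩ := ih
    obtain ⟨N₂, a', rfl⟩ := exists_rep a
    refine ⟨IsFiltered.max N₁ N₂, ?_⟩
    intro x hx
    rcases Finset.mem_insert.mp hx with rfl | hx
    · exact ⟨(IsFiltered.rightToMax N₁ N₂).1 a', ι_comp _ _⟩
    · obtain ⟨y, rfl⟩ := hN₁ x hx
      exact ⟨(IsFiltered.leftToMax N₁ N₂).1 y, ι_comp _ _⟩

theorem exists_common_fun {κ : Type*} [Finite κ] (x : κ → PtColim A K) :
    ∃ (N : PtEt A K) (y : κ → N.S), ∀ i, ι N (y i) = x i := by
  classical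
  haveI := Fintype.ofFinite κ
  obtain ⟨N, hN⟩ := exists_common (Finset.univ.image x)
  have h : ∀ i, ∃ y : N.S, ι N y = x i := fun i =>
    hN (x i) (Finset.mem_image_of_mem x (Finset.mem_univ i))
  exact ⟨N, fun i => (h i).choose, fun i => (h i).choose_spec⟩

/-- Adjoining a simple root (given in `K`) at a finite stage. -/
theorem exists_root_stage (N : PtEt A K) (q : N.S[X]) (hq : q.Monic) (α : K)
    (h1 : (q.map N.σ.toRingHom).eval α = 0)
    (h2 : IsUnit ((q.derivative.map N.σ.toRingHom).eval α)) :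
    ∃ (Z : PtEt A K) (h : N ⟶ Z) (b : Z.S), (q.map h.1.toRingHom).eval b = 0 ∧ Z.σ b = α := by
  let P : StandardEtalePair N.S := ⟨q, hq, q.derivative, ⟨1, 0, 1, by simp⟩⟩
  letI : Algebra A P.Ring := ((algebraMap N.S P.Ring).comp (algebraMap A N.S)).toAlgebra
  haveI : IsScalarTower A N.S P.Ring := IsScalarTower.of_algebraMap_eq (fun _ => rfl)
  haveI : Algebra.Etale A P.Ring := Algebra.Etale.comp A N.S P.Ring
  letI : Algebra N.S K := N.σ.toRingHom.toAlgebra
  haveI : IsScalarTower A N.S K :=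
    IsScalarTower.of_algebraMap_eq (fun a => (N.σ.commutes a).symm)
  have haev : ∀ p : N.S[X], aeval α p = (p.map N.σ.toRingHom).eval α := by
    intro p
    rw [Polynomial.aeval_def, Polynomial.eval_map]
    rfl
  have hmap : P.HasMap α := by
    constructor
    · change aeval α q = 0
      rw [haev, h1]
    · change IsUnit (aeval α q.derivative)
      rw [haev]
      exact h2
  let σ' : P.Ring →ₐ[A] K := (P.lift α hmap).restrictScalars A
  have hσ' : σ'.comp (IsScalarTower.toAlgHom A N.S P.Ring) = N.σ :=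
    AlgHom.ext fun x => by
      rw [AlgHom.comp_apply, IsScalarTower.toAlgHom_apply]
      change (P.lift α hmap) (algebraMap N.S P.Ring x) = N.σ x
      rw [AlgHom.commutes]
      rfl
  let Z := PtEt.of P.Ring σ'
  let h : N ⟶ Z := PtEt.homOf N P.Ring σ' (IsScalarTower.toAlgHom A N.S P.Ring) hσ'
  have hh : ∀ z, h.1 z = PtEt.ofEquiv P.Ring σ' (algebraMap N.S P.Ring z) := fun z => rfl
  refine ⟨Z, h, PtEt.ofEquiv P.Ring σ' P.X, ?_, ?_⟩
  · have h3 : h.1.toRingHom = ((PtEt.ofEquiv P.Ring σ').toAlgHom.toRingHom).comp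
        (algebraMap N.S P.Ring) := RingHom.ext hh
    rw [h3, ← Polynomial.map_map, Polynomial.eval_map]
    have h4 : Polynomial.eval₂ (PtEt.ofEquiv P.Ring σ').toAlgHom.toRingHom
        (PtEt.ofEquiv P.Ring σ' P.X) (q.map (algebraMap N.S P.Ring)) =
        PtEt.ofEquiv P.Ring σ' ((q.map (algebraMap N.S P.Ring)).eval P.X) :=
      (Polynomial.hom_eval₂ _ (RingHom.id _) (PtEt.ofEquiv P.Ring σ').toAlgHom.toRingHom
        P.X).symm
    rw [h4, Polynomial.eval_map, ← Polynomial.aeval_def]
    have h5 : aeval P.X q = 0 := P.hasMap_X.1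
    rw [h5, map_zero]
  · rw [PtEt.of_σ_apply]
    exact P.lift_X _ hmap

/-- Root lifting in the colimit: a monic polynomial over `PtColim A K` whose image over `K` has a
simple root `α` has a root with residue `α`. -/
theorem exists_root (f : (PtColim A K)[X]) (hf : f.Monic) (α : K)
    (h1 : (f.map residue.toRingHom).eval α = 0)
    (h2 : IsUnit ((f.derivative.map residue.toRingHom).eval α)) :
    ∃ a : PtColim A K, f.IsRoot a ∧ residue a = α := by
  classical
  obtain ⟨N, hN⟩ := exists_common f.coeffs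
  have hlift : f ∈ Polynomial.lifts (ι N) := by
    rw [Polynomial.lifts_iff_coeffs_subset_range]
    intro x hx
    exact hN x hx
  obtain ⟨q, hq, -, hqm⟩ := Polynomial.lifts_and_natDegree_eq_and_monic hlift hf
  have hres : (residue : PtColim A K →ₐ[A] K).toRingHom.comp (ι N) = N.σ.toRingHom :=
    RingHom.ext fun x => residue_ι N x
  have e1 : f.map residue.toRingHom = q.map N.σ.toRingHom := by
    rw [← hq, Polynomial.map_map, hres]
  have e2 : f.derivative.map residue.toRingHom = q.derivative.map N.σ.toRingHom := by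
    rw [← hq, Polynomial.derivative_map, Polynomial.map_map, hres]
  rw [e1] at h1
  rw [e2] at h2
  obtain ⟨Z, h, b, hb1, hb2⟩ := exists_root_stage N q hqm α h1 h2
  refine ⟨ι Z b, ?_, ?_⟩
  · rw [Polynomial.IsRoot.def, ← hq]
    have h3 : ι N = (ι Z).comp h.1.toRingHom := RingHom.ext fun x => (ι_comp h x).symm
    rw [h3, ← Polynomial.map_map, Polynomial.eval_map_apply, hb1, map_zero]
  · rw [residue_ι, hb2]

instance flat : Module.Flat A (PtColim A K) := by
  apply Module.Flat.of_forall_isTrivialRelation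
  intro l f x hfx
  obtain ⟨N, y, hy⟩ := exists_common_fun x
  have h1 : ι N (∑ i, f i • y i) = ι N 0 := by
    rw [map_zero, map_sum, ← hfx]
    apply Finset.sum_congr rfl
    intro i _
    rw [Algebra.smul_def, map_mul, ι_algebraMap, hy, Algebra.smul_def]
  obtain ⟨N', g, hg⟩ := (ι_eq_iff _ _).mp h1
  rw [map_zero, map_sum] at hg
  have h2 : ∑ i, f i • g.1 (y i) = 0 := by
    rw [← hg]
    apply Finset.sum_congr rfl
    intro i _
    rw [map_smul]
  obtain ⟨k, a, z, hz1, hz2⟩ := Module.Flat.isTrivialRelation_of_sum_smul_eq_zero h2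
  refine ⟨k, a, fun j => ι N' (z j), ?_, hz2⟩
  intro i
  have hz1' : g.1 (y i) = ∑ j, a i j • z j := hz1 i
  rw [← hy i, ← ι_comp g, hz1', map_sum]
  apply Finset.sum_congr rfl
  intro j _
  rw [Algebra.smul_def, map_mul, ι_algebraMap, Algebra.smul_def]

theorem algHom_ext {C : Type*} [CommRing C] [Algebra A C] (g₁ g₂ : PtColim A K →ₐ[A] C)
    (h : ∀ N : PtEt A K, g₁.comp (ιₐ N) = g₂.comp (ιₐ N)) : g₁ = g₂ := by
  apply AlgHom.coe_ringHom_injective
  apply hom_ext
  intro N x
  exact DFunLike.congr_fun (h N) x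

/-- Algebra homomorphisms out of the colimit. -/
noncomputable def descₐ {C : Type u} [CommRing C] [Algebra A C] (g : ∀ N : PtEt A K, N.S →ₐ[A] C)
    (hg : ∀ (N₁ N₂ : PtEt A K) (f : N₁ ⟶ N₂), (g N₂).comp f.1 = g N₁) :
    PtColim A K →ₐ[A] C :=
  { desc (fun N => (g N).toRingHom) (fun N₁ N₂ f x => DFunLike.congr_fun (hg N₁ N₂ f) x) with
    commutes' := fun a => by
      change desc (fun N => (g N).toRingHom) _ (algebraMap A (PtColim A K) a) = _
      rw [← ι_algebraMap (PtEt.base A K) a, desc_ι]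
      exact AlgHom.commutes _ a }

theorem descₐ_ι {C : Type u} [CommRing C] [Algebra A C] (g : ∀ N : PtEt A K, N.S →ₐ[A] C)
    (hg : ∀ (N₁ N₂ : PtEt A K) (f : N₁ ⟶ N₂), (g N₂).comp f.1 = g N₁) (N : PtEt A K)
    (x : N.S) : descₐ g hg (ι N x) = g N x :=
  desc_ι (fun N => (g N).toRingHom) (fun N₁ N₂ f x => DFunLike.congr_fun (hg N₁ N₂ f) x) N x

instance formallyEtale : Algebra.FormallyEtale A (PtColim A K) := by
  rw [Algebra.FormallyEtale.iff_comp_bijective]
  intro C _ _ J hJ
  constructor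
  · intro g₁ g₂ h
    apply algHom_ext
    intro N
    apply (Algebra.FormallyEtale.comp_bijective A N.S J hJ).1
    change (Ideal.Quotient.mkₐ A J).comp (g₁.comp (ιₐ N)) =
      (Ideal.Quotient.mkₐ A J).comp (g₂.comp (ιₐ N))
    rw [← AlgHom.comp_assoc, ← AlgHom.comp_assoc]
    exact congrArg (fun φ => φ.comp (ιₐ N)) h
  · intro g
    have hex : ∀ N : PtEt A K, ∃ h : N.S →ₐ[A] C,
        (Ideal.Quotient.mkₐ A J).comp h = g.comp (ιₐ N) := fun N =>
      (Algebra.FormallyEtale.comp_bijective A N.S J hJ).2 (g.comp (ιₐ N))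
    let h : ∀ N : PtEt A K, N.S →ₐ[A] C := fun N => (hex N).choose
    have hh : ∀ N, (Ideal.Quotient.mkₐ A J).comp (h N) = g.comp (ιₐ N) := fun N =>
      (hex N).choose_spec
    have hcompat : ∀ (N₁ N₂ : PtEt A K) (f : N₁ ⟶ N₂), (h N₂).comp f.1 = h N₁ := by
      intro N₁ N₂ f
      apply (Algebra.FormallyEtale.comp_bijective A N₁.S J hJ).1
      rw [← AlgHom.comp_assoc, hh, hh, AlgHom.comp_assoc, ιₐ_comp]
    refine ⟨descₐ h hcompat, ?_⟩
    apply algHom_ext
    intro N
    have h1 : (descₐ h hcompat).comp (ιₐ N) = h N :=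
      AlgHom.ext fun x => descₐ_ι h hcompat N x
    change ((Ideal.Quotient.mkₐ A J).comp (descₐ h hcompat)).comp (ιₐ N) = g.comp (ιₐ N)
    rw [AlgHom.comp_assoc, h1, hh]

/-- The universal property: towards targets `(C, J)` with unique lifting of points of étale
`A`-algebras, together with a compatible map `θ : K → C ⧸ J`. -/
theorem existsUnique_algHom {C : Type u} [CommRing C] [Algebra A C] (J : Ideal C)
    (θ : K →ₐ[A] C ⧸ J)
    (hlift : ∀ (N : PtEt A K) (τ : N.S →ₐ[A] C ⧸ J),
      ∃! g : N.S →ₐ[A] C, (Ideal.Quotient.mkₐ A J).comp g = τ) :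
    ∃! g : PtColim A K →ₐ[A] C, (Ideal.Quotient.mkₐ A J).comp g = θ.comp residue := by
  let g : ∀ N : PtEt A K, N.S →ₐ[A] C := fun N => (hlift N (θ.comp N.σ)).choose
  have hg1 : ∀ N, (Ideal.Quotient.mkₐ A J).comp (g N) = θ.comp N.σ :=
    fun N => (hlift N (θ.comp N.σ)).choose_spec.1
  have hg2 : ∀ N (g' : N.S →ₐ[A] C), (Ideal.Quotient.mkₐ A J).comp g' = θ.comp N.σ → g' = g N :=
    fun N g' h => (hlift N (θ.comp N.σ)).choose_spec.2 g' h
  have hcompat : ∀ (N₁ N₂ : PtEt A K) (f : N₁ ⟶ N₂), (g N₂).comp f.1 = g N₁ := by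
    intro N₁ N₂ f
    apply hg2
    rw [← AlgHom.comp_assoc, hg1, AlgHom.comp_assoc, f.2]
  have hresι : ∀ N : PtEt A K, (residue : PtColim A K →ₐ[A] K).comp (ιₐ N) = N.σ := fun N =>
    AlgHom.ext fun x => residue_ι N x
  refine ⟨descₐ g hcompat, ?_, ?_⟩
  · apply algHom_ext
    intro N
    have h1 : (descₐ g hcompat).comp (ιₐ N) = g N :=
      AlgHom.ext fun x => descₐ_ι g hcompat N x
    rw [AlgHom.comp_assoc, h1, hg1, AlgHom.comp_assoc, hresι]
  · intro g' hg'
    apply algHom_ext
    intro N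
    have h1 : g'.comp (ιₐ N) = g N := by
      apply hg2
      rw [← AlgHom.comp_assoc, hg', AlgHom.comp_assoc, hresι]
    rw [h1]
    exact (AlgHom.ext fun x => descₐ_ι g hcompat N x).symm

end PtColim

end Groth.Agent.Lib.Helper9.HensK
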