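import Groth.Agent.Lib.Helper9.HensK.Local
import Mathlib.FieldTheory.IsSepClosed
import Mathlib.FieldTheory.SeparableClosure
import Mathlib.RingTheory.LocalRing.ResidueField.Basic

/-!
# Local case, continued: the residue field of `PtColim R K` when `K` is separable over the residue
field of `R`
-/

namespace Groth.Agent.Lib.Helper9.HensK

open CategoryTheory TensorProduct Polynomial IsLocalRing

universe u

/-- Separable closedness transfers along ring isomorphisms. -/
theorem isSepClosed_of_ringEquiv {k k' : Type*} [Field k] [Field k'] (e : k ≃+* k')
    [IsSepClosed k] : IsSepClosed k' := by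
  apply IsSepClosed.of_exists_root
  intro p _ hirr hsep
  have hsep' : (p.map (e.symm : k' →+* k)).Separable := hsep.map
  have hdeg : (p.map (e.symm : k' →+* k)).degree ≠ 0 := by
    rw [Polynomial.degree_map]
    exact (Polynomial.degree_pos_of_irreducible hirr).ne'
  obtain ⟨x, hx⟩ := IsSepClosed.exists_root _ hdeg hsep'
  refine ⟨e x, ?_⟩
  have h1 : (p.map (e.symm : k' →+* k)).map (e : k →+* k') = p := by
    rw [Polynomial.map_map]
    have : (e : k →+* k').comp (e.symm : k' →+* k) = RingHom.id k' := by
      ext y
      simp
    rw [this, Polynomial.map_id]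
  have h2 := Polynomial.eval_map_apply (f := (e : k →+* k'))
    (p := p.map (e.symm : k' →+* k)) x
  rw [h1, hx.eq_zero, map_zero] at h2
  exact h2

variable {R : Type u} [CommRing R] [IsLocalRing R] {K : Type u} [Field K] [Algebra R K]
  [Algebra (ResidueField R) K] [IsScalarTower R (ResidueField R) K]

theorem algebraMap_eq_zero_of_mem_maximalIdeal (a : R) (ha : a ∈ maximalIdeal R) :
    algebraMap R K a = 0 := by
  rw [IsScalarTower.algebraMap_apply R (ResidueField R) K]
  have : algebraMap R (ResidueField R) a = 0 := (residue_eq_zero_iff a).mpr ha
  rw [this, map_zero]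

namespace PtColim

instance isLocalHom_algebraMap' : IsLocalHom (algebraMap R (PtColim R K)) :=
  isLocalHom_algebraMap algebraMap_eq_zero_of_mem_maximalIdeal

theorem map_maximalIdeal' :
    (maximalIdeal R).map (algebraMap R (PtColim R K)) = maximalIdeal (PtColim R K) :=
  map_maximalIdeal algebraMap_eq_zero_of_mem_maximalIdeal

/-- Every element of `K` separable over the residue field of `R` is in the image of `residue`. -/
theorem mem_range_residue_of_isSeparable (α : K) (hα : IsSeparable (ResidueField R) α) :
    ∃ x : PtColim R K, residue x = α := by
  have hint : IsIntegral (ResidueField R) α := hα.isIntegral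
  have hmon : (minpoly (ResidueField R) α).Monic := minpoly.monic hint
  have hl : minpoly (ResidueField R) α ∈ Polynomial.lifts (algebraMap R (ResidueField R)) := by
    rw [Polynomial.lifts_iff_coeffs_subset_range]
    intro c _
    exact residue_surjective c
  obtain ⟨p, hp, -, hpm⟩ := Polynomial.lifts_and_natDegree_eq_and_monic hl hmon
  let f : (PtColim R K)[X] := p.map (algebraMap R (PtColim R K))
  have hres : (residue : PtColim R K →ₐ[R] K).toRingHom.comp (algebraMap R (PtColim R K)) =
      (algebraMap (ResidueField R) K).comp (algebraMap R (ResidueField R)) := by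
    ext a
    change residue (algebraMap R (PtColim R K) a) = _
    rw [AlgHom.commutes, IsScalarTower.algebraMap_apply R (ResidueField R) K]
    rfl
  have e1 : f.map (residue : PtColim R K →ₐ[R] K).toRingHom =
      (minpoly (ResidueField R) α).map (algebraMap (ResidueField R) K) := by
    rw [Polynomial.map_map, hres, ← Polynomial.map_map, hp]
  have e2 : f.derivative.map (residue : PtColim R K →ₐ[R] K).toRingHom =
      (minpoly (ResidueField R) α).derivative.map (algebraMap (ResidueField R) K) := by
    rw [← Polynomial.derivative_map, e1, Polynomial.derivative_map]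
  have h1 : (f.map (residue : PtColim R K →ₐ[R] K).toRingHom).eval α = 0 := by
    rw [e1, Polynomial.eval_map_algebraMap, minpoly.aeval]
  have h2 : IsUnit ((f.derivative.map (residue : PtColim R K →ₐ[R] K).toRingHom).eval α) := by
    rw [e2, Polynomial.eval_map_algebraMap, isUnit_iff_ne_zero]
    exact hα.aeval_derivative_ne_zero (minpoly.aeval _ _)
  obtain ⟨a, -, ha⟩ := exists_root f (hpm.map _) α h1 h2
  exact ⟨a, ha⟩

theorem residue_surjective_of_isSeparable [Algebra.IsSeparable (ResidueField R) K] :
    Function.Surjective (residue : PtColim R K →ₐ[R] K) := fun α =>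
  mem_range_residue_of_isSeparable α (Algebra.IsSeparable.isSeparable _ α)

instance : IsLocalHom (residue : PtColim R K →ₐ[R] K).toRingHom := by
  constructor
  intro a ha
  exact isUnit_of_isUnit_residue a ha

/-- The map from the residue field of `PtColim R K` to `K`. -/
noncomputable def residueFieldToK : ResidueField (PtColim R K) →+* K :=
  IsLocalRing.ResidueField.lift (residue : PtColim R K →ₐ[R] K).toRingHom

theorem residueFieldToK_residue (x : PtColim R K) :
    residueFieldToK (IsLocalRing.residue (PtColim R K) x) = residue x := rfl

theorem residueFieldToK_algebraMap (c : ResidueField R) :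
    residueFieldToK (K := K) (algebraMap (ResidueField R) (ResidueField (PtColim R K)) c) =
      algebraMap (ResidueField R) K c := by
  obtain ⟨a, rfl⟩ := residue_surjective c
  change residueFieldToK (IsLocalRing.residue (PtColim R K) (algebraMap R (PtColim R K) a)) = _
  rw [residueFieldToK_residue, AlgHom.commutes, IsScalarTower.algebraMap_apply R (ResidueField R) K]
  rfl

/-- When `K` is separable over the residue field of `R`, the residue field of `PtColim R K` is
`K`. -/
noncomputable def residueFieldEquiv [Algebra.IsSeparable (ResidueField R) K] :
    ResidueField (PtColim R K) ≃ₐ[ResidueField R] K :=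
  AlgEquiv.ofBijective
    { residueFieldToK (R := R) (K := K) with commutes' := residueFieldToK_algebraMap }
    ⟨(residueFieldToK (R := R) (K := K)).injective, fun α => by
      obtain ⟨x, hx⟩ := residue_surjective_of_isSeparable (R := R) α
      exact ⟨IsLocalRing.residue _ x, hx⟩⟩

theorem residueFieldEquiv_residue [Algebra.IsSeparable (ResidueField R) K] (x : PtColim R K) :
    residueFieldEquiv (IsLocalRing.residue (PtColim R K) x) = residue x := rfl

theorem isSepClosure_residueField [IsSepClosure (ResidueField R) K] :
    IsSepClosure (ResidueField R) (ResidueField (PtColim R K)) := by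
  haveI : Algebra.IsSeparable (ResidueField R) K := IsSepClosure.separable
  haveI : IsSepClosed K := IsSepClosure.sep_closed (ResidueField R)
  exact ⟨isSepClosed_of_ringEquiv (residueFieldEquiv (R := R) (K := K)).symm.toRingEquiv,
    (AlgEquiv.Algebra.isSeparable_iff (residueFieldEquiv (R := R) (K := K))).mpr inferInstance⟩

end PtColim

end Groth.Agent.Lib.Helper9.HensK
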