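import Mathlib.RingTheory.Etale.Basic
import Mathlib.RingTheory.Unramified.Finite
import Mathlib.RingTheory.FiniteType
import Mathlib.Algebra.Category.Ring.FilteredColimits
import Mathlib.CategoryTheory.Limits.ConcreteCategory.Basic
import Mathlib.CategoryTheory.Filtered.Basic

/-!
# The category of pointed étale algebras over a `A`-algebra `K`

Objects: étale `A`-algebras `S` (presented as quotients of polynomial rings, so that the category is
small) together with an `A`-algebra map `σ : S → K`. Morphisms: `A`-algebra maps compatible with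
the `σ`s. This category is filtered; its colimit is the henselization of the `A`-algebra `K`.
-/

namespace Groth.Agent.Lib.Helper9.HensK

open CategoryTheory TensorProduct

universe u

variable (A : Type u) [CommRing A] (K : Type u) [CommRing K] [Algebra A K]

/-- A pointed étale algebra over the `A`-algebra `K`, in small form. -/
structure PtEt : Type u where
  /-- number of variables -/
  n : ℕ
  /-- the ideal of relations -/
  rel : Ideal (MvPolynomial (Fin n) A)
  etale' : Algebra.Etale A (MvPolynomial (Fin n) A ⧸ rel)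
  /-- the point -/
  σ' : (MvPolynomial (Fin n) A ⧸ rel) →ₐ[A] K

variable {A K}

/-- The underlying algebra of a pointed étale algebra. -/
def PtEt.S (N : PtEt A K) : Type u := MvPolynomial (Fin N.n) A ⧸ N.rel

noncomputable instance (N : PtEt A K) : CommRing N.S :=
  inferInstanceAs (CommRing (MvPolynomial (Fin N.n) A ⧸ N.rel))

noncomputable instance (N : PtEt A K) : Algebra A N.S :=
  inferInstanceAs (Algebra A (MvPolynomial (Fin N.n) A ⧸ N.rel))

instance (N : PtEt A K) : Algebra.Etale A N.S := N.etale'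

/-- The point of a pointed étale algebra. -/
def PtEt.σ (N : PtEt A K) : N.S →ₐ[A] K := N.σ'

/-- Morphisms of pointed étale algebras. -/
def PtEt.Hom (N₁ N₂ : PtEt A K) : Type u := {f : N₁.S →ₐ[A] N₂.S // N₂.σ.comp f = N₁.σ}

noncomputable instance : Category.{u} (PtEt A K) where
  Hom N₁ N₂ := PtEt.Hom N₁ N₂
  id N := ⟨AlgHom.id A N.S, AlgHom.comp_id _⟩
  comp f g := ⟨g.1.comp f.1, by rw [← AlgHom.comp_assoc, g.2, f.2]⟩
  id_comp f := Subtype.ext (AlgHom.comp_id _)
  comp_id f := Subtype.ext (AlgHom.id_comp _)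
  assoc f g h := Subtype.ext rfl

@[ext]
theorem PtEt.hom_ext {N₁ N₂ : PtEt A K} (f g : N₁ ⟶ N₂) (h : f.1 = g.1) : f = g :=
  Subtype.ext h

@[simp]
theorem PtEt.comp_val {N₁ N₂ N₃ : PtEt A K} (f : N₁ ⟶ N₂) (g : N₂ ⟶ N₃) :
    (f ≫ g).1 = g.1.comp f.1 := rfl

@[simp]
theorem PtEt.id_val (N : PtEt A K) : (𝟙 N : N ⟶ N).1 = AlgHom.id A N.S := rfl

theorem PtEt.Hom.σ_apply {N₁ N₂ : PtEt A K} (f : N₁ ⟶ N₂) (x : N₁.S) :
    N₂.σ (f.1 x) = N₁.σ x := DFunLike.congr_fun f.2 x

/-- Every pointed étale algebra is isomorphic to one in small form. -/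
theorem PtEt.exists_of (S : Type u) [CommRing S] [Algebra A S] [Algebra.Etale A S]
    (σ : S →ₐ[A] K) :
    ∃ (N : PtEt A K) (e : S ≃ₐ[A] N.S), N.σ.comp e.toAlgHom = σ := by
  obtain ⟨n, f, hf⟩ := Algebra.FiniteType.iff_quotient_mvPolynomial''.mp
    (inferInstance : Algebra.FiniteType A S)
  let e : (MvPolynomial (Fin n) A ⧸ RingHom.ker f.toRingHom) ≃ₐ[A] S :=
    Ideal.quotientKerAlgEquivOfSurjective hf
  exact ⟨⟨n, RingHom.ker f.toRingHom, Algebra.Etale.of_equiv e.symm, σ.comp e.toAlgHom⟩,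
    e.symm, by ext x; exact congrArg σ (e.apply_symm_apply x)⟩

/-- A choice of small form of a pointed étale algebra. -/
noncomputable def PtEt.of (S : Type u) [CommRing S] [Algebra A S] [Algebra.Etale A S]
    (σ : S →ₐ[A] K) : PtEt A K := (PtEt.exists_of S σ).choose

/-- The comparison isomorphism for `PtEt.of`. -/
noncomputable def PtEt.ofEquiv (S : Type u) [CommRing S] [Algebra A S] [Algebra.Etale A S]
    (σ : S →ₐ[A] K) : S ≃ₐ[A] (PtEt.of S σ).S := (PtEt.exists_of S σ).choose_spec.choose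

theorem PtEt.of_σ_comp (S : Type u) [CommRing S] [Algebra A S] [Algebra.Etale A S]
    (σ : S →ₐ[A] K) : (PtEt.of S σ).σ.comp (PtEt.ofEquiv S σ).toAlgHom = σ :=
  (PtEt.exists_of S σ).choose_spec.choose_spec

theorem PtEt.of_σ_apply (S : Type u) [CommRing S] [Algebra A S] [Algebra.Etale A S]
    (σ : S →ₐ[A] K) (x : S) : (PtEt.of S σ).σ (PtEt.ofEquiv S σ x) = σ x :=
  DFunLike.congr_fun (PtEt.of_σ_comp S σ) x

/-- A map from an object into `PtEt.of S σ` induced by an algebra map into `S`. -/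
noncomputable def PtEt.homOf (N : PtEt A K) (S : Type u) [CommRing S] [Algebra A S]
    [Algebra.Etale A S] (σ : S →ₐ[A] K) (f : N.S →ₐ[A] S) (hf : σ.comp f = N.σ) :
    N ⟶ PtEt.of S σ :=
  ⟨(PtEt.ofEquiv S σ).toAlgHom.comp f, by
    rw [← AlgHom.comp_assoc, PtEt.of_σ_comp, hf]⟩

@[simp]
theorem PtEt.homOf_apply (N : PtEt A K) (S : Type u) [CommRing S] [Algebra A S]
    [Algebra.Etale A S] (σ : S →ₐ[A] K) (f : N.S →ₐ[A] S) (hf : σ.comp f = N.σ) (x : N.S) :
    (PtEt.homOf N S σ f hf).1 x = PtEt.ofEquiv S σ (f x) := rfl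

attribute [irreducible] PtEt.S

end Groth.Agent.Lib.Helper9.HensK
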