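import Groth.Agent.Lib.Helper9.HensK.Filtered
import Mathlib.Algebra.Category.Ring.Colimits

/-!
# The henselization of a pair as a filtered colimit: basic API
-/

namespace Groth.Agent.Lib.Helper9.HensK

open CategoryTheory TensorProduct

universe u

variable {A : Type u} [CommRing A] {K : Type u} [CommRing K] [Algebra A K]

/-- The diagram of pointed étale algebras. -/
noncomputable def PtEt.functor : PtEt A K ⥤ CommRingCat.{u} where
  obj N := CommRingCat.of N.S
  map f := CommRingCat.ofHom f.1.toRingHom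
  map_id _ := rfl
  map_comp _ _ := rfl

variable (A K) in
/-- The henselization of the `A`-algebra `K`. -/
def PtColim : Type u := (Limits.colimit (PtEt.functor (A := A) (K := K)) : CommRingCat.{u})

noncomputable instance : CommRing (PtColim A K) :=
  inferInstanceAs (CommRing (Limits.colimit (PtEt.functor (A := A) (K := K)) : CommRingCat.{u}))

namespace PtColim

/-- The structure maps of the colimit. -/
noncomputable def ι (N : PtEt A K) : N.S →+* PtColim A K :=
  (Limits.colimit.ι (PtEt.functor (A := A) (K := K)) N).hom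

theorem ι_comp {N₁ N₂ : PtEt A K} (f : N₁ ⟶ N₂) (x : N₁.S) : ι N₂ (f.1 x) = ι N₁ x := by
  have h := Limits.colimit.w (PtEt.functor (A := A) (K := K)) f
  have h2 := congrArg (fun φ => φ.hom x) h
  exact h2

theorem exists_rep (x : PtColim A K) : ∃ (N : PtEt A K) (y : N.S), ι N y = x :=
  Limits.Concrete.colimit_exists_rep (PtEt.functor (A := A) (K := K)) x

theorem ι_eq_ι_iff {N₁ N₂ : PtEt A K} (x : N₁.S) (y : N₂.S) :
    ι N₁ x = ι N₂ y ↔ ∃ (N : PtEt A K) (f : N₁ ⟶ N) (g : N₂ ⟶ N), f.1 x = g.1 y := by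
  constructor
  · intro h
    exact Limits.Concrete.colimit_exists_of_rep_eq (PtEt.functor (A := A) (K := K)) x y h
  · rintro ⟨N, f, g, h⟩
    rw [← ι_comp f, ← ι_comp g, h]

theorem ι_eq_iff {N : PtEt A K} (x y : N.S) :
    ι N x = ι N y ↔ ∃ (N' : PtEt A K) (f : N ⟶ N'), f.1 x = f.1 y := by
  constructor
  · intro h
    obtain ⟨N₁, f, g, hfg⟩ := (ι_eq_ι_iff x y).mp h
    refine ⟨IsFiltered.coeq f g, f ≫ IsFiltered.coeqHom f g, ?_⟩
    have h1 : (f ≫ IsFiltered.coeqHom f g).1 y = (g ≫ IsFiltered.coeqHom f g).1 y := by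
      rw [IsFiltered.coeq_condition]
    rw [h1, PtEt.comp_val, PtEt.comp_val, AlgHom.comp_apply, AlgHom.comp_apply, hfg]
  · rintro ⟨N', f, h⟩
    rw [← ι_comp f, ← ι_comp f, h]

theorem exists_rep₂ (x y : PtColim A K) :
    ∃ (N : PtEt A K) (a b : N.S), ι N a = x ∧ ι N b = y := by
  obtain ⟨N₁, a, rfl⟩ := exists_rep x
  obtain ⟨N₂, b, rfl⟩ := exists_rep y
  exact ⟨IsFiltered.max N₁ N₂, (IsFiltered.leftToMax N₁ N₂).1 a, (IsFiltered.rightToMax N₁ N₂).1 b,
    ι_comp _ _, ι_comp _ _⟩

/-- Ring homomorphisms out of the colimit. -/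
noncomputable def desc {C : Type u} [CommRing C] (g : ∀ N : PtEt A K, N.S →+* C)
    (hg : ∀ (N₁ N₂ : PtEt A K) (f : N₁ ⟶ N₂) (x : N₁.S), g N₂ (f.1 x) = g N₁ x) :
    PtColim A K →+* C :=
  (Limits.colimit.desc (PtEt.functor (A := A) (K := K))
    { pt := CommRingCat.of C
      ι := { app := fun N => CommRingCat.ofHom (g N)
             naturality := fun N₁ N₂ f => by
              ext x
              exact hg N₁ N₂ f x } }).hom

theorem desc_ι {C : Type u} [CommRing C] (g : ∀ N : PtEt A K, N.S →+* C)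
    (hg : ∀ (N₁ N₂ : PtEt A K) (f : N₁ ⟶ N₂) (x : N₁.S), g N₂ (f.1 x) = g N₁ x)
    (N : PtEt A K) (x : N.S) : desc g hg (ι N x) = g N x := by
  have h := Limits.colimit.ι_desc
    ({ pt := CommRingCat.of C
       ι := { app := fun N => CommRingCat.ofHom (g N)
              naturality := fun N₁ N₂ f => by
                ext x
                exact hg N₁ N₂ f x } } : Limits.Cocone (PtEt.functor (A := A) (K := K))) N
  exact congrArg (fun φ => φ.hom x) h

theorem hom_ext {C : Type*} [Semiring C] (g₁ g₂ : PtColim A K →+* C)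
    (h : ∀ (N : PtEt A K) (x : N.S), g₁ (ι N x) = g₂ (ι N x)) : g₁ = g₂ := by
  ext x
  obtain ⟨N, y, rfl⟩ := exists_rep x
  exact h N y

end PtColim

end Groth.Agent.Lib.Helper9.HensK
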