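import Groth.Agent.Lib.Helper9.HensK.Basic
import Mathlib.RingTheory.Unramified.LocalRing
import Mathlib.RingTheory.Henselian
import Mathlib.RingTheory.Localization.AtPrime.Basic

/-!
# Local case: `R` local, `K` a field over the residue field of `R`
-/

namespace Groth.Agent.Lib.Helper9.HensK

open CategoryTheory TensorProduct Polynomial IsLocalRing

universe u

variable {R : Type u} [CommRing R] [IsLocalRing R] {K : Type u} [Field K] [Algebra R K]

/-- In an étale algebra over a local ring with a point in a field `K` over the residue field, the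
kernel of the point is generated by the maximal ideal of `R` after localization. -/
theorem PtEt.exists_mul_mem_map (hK : ∀ a ∈ maximalIdeal R, algebraMap R K a = 0) (N : PtEt R K)
    (y : N.S) (hy : N.σ y = 0) :
    ∃ d : N.S, N.σ d ≠ 0 ∧ y * d ∈ (maximalIdeal R).map (algebraMap R N.S) := by
  let q : Ideal N.S := RingHom.ker N.σ.toRingHom
  haveI hq : q.IsPrime := RingHom.ker_isPrime _
  let Sq := Localization.AtPrime q
  haveI : IsLocalHom (algebraMap R Sq) := by
    constructor
    intro a ha
    rw [IsScalarTower.algebraMap_apply R N.S Sq, IsLocalization.AtPrime.isUnit_to_map_iff Sq q] at ha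
    by_contra hna
    apply ha
    change N.σ (algebraMap R N.S a) = 0
    rw [AlgHom.commutes]
    exact hK a ((mem_maximalIdeal a).mpr hna)
  have hmax := Algebra.FormallyUnramified.map_maximalIdeal (R := R) (S := Sq)
  have h1 : algebraMap N.S Sq y ∈ maximalIdeal Sq := by
    rw [IsLocalization.AtPrime.to_map_mem_maximal_iff Sq q]
    exact hy
  rw [← hmax, IsScalarTower.algebraMap_eq R N.S Sq, ← Ideal.map_map,
    IsLocalization.mem_map_algebraMap_iff q.primeCompl Sq] at h1
  obtain ⟨⟨⟨j, hj⟩, ⟨d, hd⟩⟩, hjd⟩ := h1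
  rw [← map_mul, IsLocalization.eq_iff_exists q.primeCompl Sq] at hjd
  obtain ⟨⟨c, hc⟩, hc'⟩ := hjd
  refine ⟨d * c, ?_, ?_⟩
  · have : d * c ∈ q.primeCompl := Submonoid.mul_mem _ hd hc
    exact this
  · have h2 : y * (d * c) = c * j := by
      simp only at hc'
      rw [← hc']
      ring
    rw [h2]
    exact Ideal.mul_mem_left _ _ hj

namespace PtColim

instance : Nontrivial (PtColim R K) := by
  refine ⟨⟨0, 1, fun h => ?_⟩⟩
  have h1 := congrArg (residue : PtColim R K →ₐ[R] K) h
  rw [map_zero, map_one] at h1
  exact zero_ne_one h1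

omit [IsLocalRing R] in
theorem isUnit_iff (x : PtColim R K) : IsUnit x ↔ residue x ≠ 0 := by
  rw [isUnit_iff_isUnit_residue]
  exact isUnit_iff_ne_zero

instance : IsLocalRing (PtColim R K) := by
  apply IsLocalRing.of_isUnit_or_isUnit_one_sub_self
  intro a
  by_cases h : residue a = 0
  · right
    rw [isUnit_iff, map_sub, map_one, h, sub_zero]
    exact one_ne_zero
  · left
    exact (isUnit_iff a).mpr h

omit [IsLocalRing R] in
theorem mem_maximalIdeal_iff (x : PtColim R K) :
    x ∈ maximalIdeal (PtColim R K) ↔ residue x = 0 := by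
  rw [mem_maximalIdeal, mem_nonunits_iff, isUnit_iff, not_not]

theorem isLocalHom_algebraMap (hK : ∀ a ∈ maximalIdeal R, algebraMap R K a = 0) :
    IsLocalHom (algebraMap R (PtColim R K)) := by
  constructor
  intro a ha
  rw [isUnit_iff, AlgHom.commutes] at ha
  by_contra hna
  exact ha (hK a ((mem_maximalIdeal a).mpr hna))

theorem map_maximalIdeal (hK : ∀ a ∈ maximalIdeal R, algebraMap R K a = 0) :
    (maximalIdeal R).map (algebraMap R (PtColim R K)) = maximalIdeal (PtColim R K) := by
  apply le_antisymm
  · rw [Ideal.map_le_iff_le_comap]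
    intro a ha
    rw [Ideal.mem_comap, mem_maximalIdeal_iff, AlgHom.commutes]
    exact hK a ha
  · intro x hx
    rw [mem_maximalIdeal_iff] at hx
    obtain ⟨N, y, rfl⟩ := exists_rep x
    rw [residue_ι] at hx
    obtain ⟨d, hd1, hd2⟩ := PtEt.exists_mul_mem_map hK N y hx
    have h1 : ι N (y * d) ∈ (maximalIdeal R).map (algebraMap R (PtColim R K)) := by
      have h2 := Ideal.mem_map_of_mem (ι N) hd2
      rw [Ideal.map_map] at h2
      have h3 : (ι N).comp (algebraMap R N.S) = algebraMap R (PtColim R K) :=
        RingHom.ext (ι_algebraMap N)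
      rw [h3] at h2
      exact h2
    rw [map_mul] at h1
    have hu : IsUnit (ι N d) := isUnit_ι_of_isUnit_σ N d (isUnit_iff_ne_zero.mpr hd1)
    exact (Ideal.mul_unit_mem_iff_mem _ hu).mp h1

instance : HenselianLocalRing (PtColim R K) where
  is_henselian := by
    intro f hf a₀ h₁ h₂
    have h1 : (f.map (residue : PtColim R K →ₐ[R] K).toRingHom).eval (residue a₀) = 0 := by
      have := Polynomial.eval_map_apply (f := (residue : PtColim R K →ₐ[R] K).toRingHom)
        (p := f) a₀
      rw [mem_maximalIdeal_iff] at h₁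
      exact this.trans h₁
    have h2 : IsUnit ((f.derivative.map (residue : PtColim R K →ₐ[R] K).toRingHom).eval
        (residue a₀)) := by
      have := Polynomial.eval_map_apply (f := (residue : PtColim R K →ₐ[R] K).toRingHom)
        (p := f.derivative) a₀
      exact this ▸ (h₂.map (residue : PtColim R K →ₐ[R] K).toRingHom)
    obtain ⟨a, ha1, ha2⟩ := exists_root f hf (residue a₀) h1 h2
    refine ⟨a, ha1, ?_⟩
    rw [mem_maximalIdeal_iff, map_sub, ha2, sub_self]

end PtColim

end Groth.Agent.Lib.Helper9.HensK
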